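import Cfsg.Agent.H593.OZ.Invol
import Cfsg.Agent.H593.OZ.Fi24W
import Cfsg.Agent.H593.OZ.Tri
import Cfsg.Agent.H153.Dl.B24.D
import Cfsg.Agent.H968.Tor.FiFour
import Cfsg.Agent.H849.OZ.Sieve
import Cfsg.Agent.H733.OZ.Good
import Cfsg.Agent.H730.OZ.Asm

/-!
# One vanishing class: `Fi24'` (helper593, for S4842)

The primes 17, 23, 29 are isolated; the degree is `± 1` modulo 13 (`mod_of_invol` : the centralizer of an element of
order 13 and an involution has order at most 26; T4 if `13 < |C(x)|`); the sieve leaves two degrees, both divisible by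
3 and 17, so that `|C(x)| = 17`; an element of order 27 is rational with a centralizer of order at most 81.
-/

set_option autoImplicit false
set_option maxRecDepth 100000
set_option linter.constructorNameAsVariable false

open Cfsg Subgroup Cfsg.Agent.Characters Cfsg.Agent.H732.VZ Cfsg.Agent.H604.OZ

namespace Cfsg.Agent.H593.OZ.Fi24

open Cfsg.Spor (Fi24)
open Cfsg.Spor.Fi24 (Gen)
open Cfsg.Agent.H153.Dl Cfsg.Agent.H153.Dl.PR
open Cfsg.Agent.R08.FiTwentyFour (index_commutator)

universe u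

/-- the order of `Fi24'` -/
theorem card : Nat.card Spor.Fi24' = 1255205709190661721292800 := R08.FiTwentyFour.card_commutator

theorem finite : Finite Spor.Fi24' := H968.Tor.finite24

theorem word_mem (l : List Gen) : R24.word l ∈ commutator Fi24 ↔ Even l.length := by
  show Fischer.Fi24Rep.word l ∈ commutator Fi24 ↔ Even l.length
  induction l with
  | nil =>
    rw [Fischer.Fi24Spider.word_nil]
    exact ⟨fun _ => by simp, fun _ => one_mem _⟩
  | cons c l ih =>
    have hc : Fischer.Fi24Rep.gen c ∉ commutator Fi24 :=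
      Cfsg.Agent.R08.FiTwentyFour.odd (Cfsg.Agent.R08.FiTwentyFour.gen_mem_L c)
    rw [Fischer.Fi24Spider.word_cons, Subgroup.mul_mem_iff_of_index_two index_commutator, ih, List.length_cons,
      Nat.even_add_one]
    tauto

theorem conj_of {G : Type} [Group G] (R : PR G) {w xw : List R.Lt} {k : ℕ}
    (h : R.chkEq (w ++ xw) (rep k xw ++ w) = true) : R.word w * R.word xw * (R.word w)⁻¹ = R.word xw ^ k := by
  have h2 := R.word_eq_of h
  rw [R.word_append, R.word_append, R.word_rep] at h2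
  rw [h2, mul_inv_cancel_right]

theorem pow_of {G : Type} [Group G] (R : PR G) {xw : List R.Lt} {k : ℕ}
    (h : R.chkEq (rep k xw) [] = true) : R.word xw ^ k = 1 := by
  have h2 := R.word_eq_of h
  rwa [R.word_rep, R.word_nil] at h2

/-! ### Rational elements -/

section rational

variable {G : Type u} [Group G]

theorem conj_pow_pow {w y : G} {a : ℕ} (h : w * y * w⁻¹ = y ^ a) (k : ℕ) : w ^ k * y * (w ^ k)⁻¹ = y ^ (a ^ k) := by
  induction k with
  | zero => simp
  | succ k ih =>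
    calc w ^ (k + 1) * y * (w ^ (k + 1))⁻¹ = w ^ k * (w * y * w⁻¹) * (w ^ k)⁻¹ := by rw [pow_succ]; group
      _ = (w ^ k * y * (w ^ k)⁻¹) ^ a := by rw [h, conj_pow]
      _ = y ^ (a ^ (k + 1)) := by rw [ih, ← pow_mul, pow_succ]

/-- An element conjugate to its `a`-th power, `a` a primitive root. -/
theorem rational_of [Finite G] {w y : G} {a n : ℕ} (h : w * y * w⁻¹ = y ^ a) (hn : y ^ n = 1)
    (hd : n ∣ Nat.card G) (hk : ∀ m : ℕ, m.Coprime n → ∃ k : ℕ, m ≡ a ^ k [MOD n]) (m : ℕ)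
    (hm : m.Coprime (Nat.card G)) : IsConj (y ^ m) y := by
  obtain ⟨k, hk⟩ := hk m (Nat.Coprime.coprime_dvd_right hd hm)
  have h1 : y ^ m = y ^ (a ^ k) := by
    rw [pow_eq_pow_iff_modEq]
    exact hk.of_dvd (orderOf_dvd_of_pow_eq_one hn)
  rw [h1, ← conj_pow_pow h k]
  exact (isConj_iff.2 ⟨w ^ k, rfl⟩ : IsConj y (w ^ k * y * (w ^ k)⁻¹)).symm

/-- 2 is a primitive root modulo 27. -/
theorem two_pow_27 (m : ℕ) (hm : m.Coprime 27) : ∃ k : ℕ, m ≡ 2 ^ k [MOD 27] := by
  have h : ∀ r < 27, r.Coprime 27 → ∃ k < 18, 2 ^ k % 27 = r := by decide +kernel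
  obtain ⟨k, -, hk⟩ := h (m % 27) (Nat.mod_lt _ (by norm_num)) (by
    rw [Nat.Coprime, ← Nat.gcd_rec, Nat.gcd_comm]
    exact hm)
  exact ⟨k, hk.symm⟩

/-- `12 * |C(x)| ≤ |N(⟨x⟩)|` -/
theorem card_cent_mul [Finite G] {w x : G} (h : w * x * w⁻¹ = x ^ 2) (hx : orderOf x = 13) :
    12 * Nat.card (centralizer ({x} : Set G)) ≤ Nat.card (normalizer ((zpowers x : Subgroup G) : Set G)) := by
  have hN : w ∈ normalizer ((zpowers x : Subgroup G) : Set G) := by
    have h13 : x ^ 13 = 1 := by rw [← hx, pow_orderOf_eq_one]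
    rw [mem_normalizer_iff]
    intro g
    constructor
    · rintro ⟨n, rfl⟩
      change w * x ^ n * w⁻¹ ∈ zpowers x
      rw [← conj_zpow, h]
      exact zpow_mem (pow_mem (mem_zpowers x) 2) n
    · rintro ⟨n, hn⟩
      have hn : x ^ n = w * g * w⁻¹ := hn
      have h1 : x = (x ^ 2) ^ 7 := by
        rw [← pow_mul]
        calc x = x ^ 13 * x := by rw [h13, one_mul]
          _ = x ^ (2 * 7) := by rw [← pow_succ]
      have h2 : g = (x ^ 7) ^ n := by
        have h3 : w * g * w⁻¹ = w * (x ^ 7) ^ n * w⁻¹ := by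
          rw [← hn, ← conj_zpow, ← conj_pow, h, ← h1]
        exact mul_left_cancel (mul_right_cancel h3)
      rw [h2]
      exact zpow_mem (pow_mem (mem_zpowers x) 7) n
  have hC : centralizer ({x} : Set G) ≤ normalizer ((zpowers x : Subgroup G) : Set G) := by
    intro g hg
    refine centralizer_le_normalizer _ ?_
    rw [mem_centralizer_iff]
    rintro _ ⟨n, rfl⟩
    exact ((show Commute g x from mem_centralizer_singleton_iff.1 hg).zpow_right n).eq.symm
  let f : Fin 12 × centralizer ({x} : Set G) → normalizer ((zpowers x : Subgroup G) : Set G) := fun q =>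
    ⟨w ^ (q.1 : ℕ) * (q.2 : G), mul_mem (pow_mem hN _) (hC q.2.2)⟩
  have hf : Function.Injective f := by
    rintro ⟨i, c⟩ ⟨i', c'⟩ h0
    have h1 : w ^ (i : ℕ) * (c : G) = w ^ (i' : ℕ) * (c' : G) :=
      congrArg (fun v : normalizer ((zpowers x : Subgroup G) : Set G) => (v : G)) h0
    have hc : ∀ c : centralizer ({x} : Set G), (c : G) * x * (c : G)⁻¹ = x := fun c => by
      rw [mem_centralizer_singleton_iff.1 c.2, mul_inv_cancel_right]
    have h2 : ∀ (i : ℕ) (c : centralizer ({x} : Set G)), w ^ i * (c : G) * x * (w ^ i * (c : G))⁻¹ = x ^ (2 ^ i) := by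
      intro i c
      calc w ^ i * (c : G) * x * (w ^ i * (c : G))⁻¹ = w ^ i * ((c : G) * x * (c : G)⁻¹) * (w ^ i)⁻¹ := by group
        _ = x ^ (2 ^ i) := by rw [hc, conj_pow_pow h]
    have h3 : x ^ (2 ^ (i : ℕ)) = x ^ (2 ^ (i' : ℕ)) := by rw [← h2 i c, ← h2 i' c', h1]
    rw [pow_eq_pow_iff_modEq, hx] at h3
    have h4 : ∀ i i' : Fin 12, 2 ^ (i : ℕ) % 13 = 2 ^ (i' : ℕ) % 13 → i = i' := by decide +kernel
    have h5 := h4 i i' h3
    subst h5
    have h6 : (c : G) = c' := mul_left_cancel h1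
    rw [Subtype.ext h6]
  have h1 := Nat.card_le_card_of_injective f hf
  rw [Nat.card_prod, Nat.card_eq_fintype_card (α := Fin 12), Fintype.card_fin] at h1
  exact h1

end rational

/-! ### The prime 13 -/

open Cfsg.Agent.H845.T13 (x u v)
open Cfsg.Agent.Fischer.Fi24Rep (gen)

theorem x_mem : x ∈ commutator Fi24 := (word_mem H845.T13Data.wx).2 (by decide)

/-- an element of order 13 -/
noncomputable def z : Spor.Fi24' := ⟨x, x_mem⟩

theorem orderOf_x : orderOf x = 13 := by
  have : Fact (Nat.Prime 13) := ⟨by norm_num⟩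
  exact orderOf_eq_prime H845.T13.x13 H845.T13.x_ne

theorem orderOf_z : orderOf z = 13 := by
  rw [← Subgroup.orderOf_coe]
  exact orderOf_x

theorem card_cx : Nat.card (centralizer ({x} : Set Fi24)) ≤ 468 := by
  have hfin := R08.FiTwentyFour.finite_Fi24
  have h1 : R24.word Fi24W.w13 * x * (R24.word Fi24W.w13)⁻¹ = x ^ 2 := conj_of R24 Fi24W.c13
  have h2 := card_cent_mul h1 orderOf_x
  have h3 := Nat.le_of_dvd (by norm_num) (H256.Sep.FiData.card13 H845.T13.facts)
  omega

/-- an involution commuting with it -/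
noncomputable def t : Spor.Fi24' := ⟨gen .l * u, R08.FiTwentyFour.even (R08.FiTwentyFour.gen_mem_L .l) H845.T13.u_mem⟩

theorem orderOf_t : orderOf t = 2 := by
  have h := H845.T13.facts
  have : Fact (Nat.Prime 2) := ⟨Nat.prime_two⟩
  refine orderOf_eq_prime ?_ ?_
  · apply Subtype.ext
    change (gen .l * u) ^ 2 = 1
    rw [pow_two]
    calc gen .l * u * (gen .l * u) = gen .l * (u * gen .l) * u := by group
      _ = (gen .l * gen .l) * (u * u) := by rw [← h.lu]; group
      _ = 1 := by rw [h.ll, h.uu, one_mul]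
  · intro h1
    have h2 : gen .l * u = 1 := congrArg Subtype.val h1
    have h3 : u = gen .l := by
      rw [eq_inv_of_mul_eq_one_right h2, inv_eq_of_mul_eq_one_right h.ll]
    apply h.lkn
    have h4 := h.ku
    rw [h3] at h4
    exact h4.symm

theorem zt : z * t = t * z := by
  have h := H845.T13.facts
  apply Subtype.ext
  change x * (gen .l * u) = gen .l * u * x
  rw [← mul_assoc, h.xl, mul_assoc, h.xu, mul_assoc]

theorem card_czt : Nat.card (centralizer ({z} : Set Spor.Fi24') ⊓ centralizer ({t} : Set Spor.Fi24') :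
    Subgroup Spor.Fi24') ≤ 26 := by
  have hfin := R08.FiTwentyFour.finite_Fi24
  have h := H845.T13.facts
  have hc : ∀ {y : Fi24}, x * y = y * x → y ∈ centralizer ({x} : Set Fi24) := fun hy =>
    mem_centralizer_singleton_iff.2 hy.symm
  have h1 := card_two_tri (C := centralizer ({x} : Set Fi24)) (G' := commutator Fi24) h.ll h.kk h.uu h.vv h.lk h.uv
    h.lkn h.uvn h.lu h.lv h.ku h.kv (hc h.xl) (hc h.xk) (hc h.xu) (hc h.xv) (R08.FiTwentyFour.odd h.hl)
    (R08.FiTwentyFour.even h.hl h.hk) (R08.FiTwentyFour.even h.hu h.hv)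
  have h2 := card_cx
  have h3 : Nat.card (centralizer ({z} : Set Spor.Fi24') ⊓ centralizer ({t} : Set Spor.Fi24') : Subgroup Spor.Fi24')
      ≤ Nat.card (centralizer ({x} : Set Fi24) ⊓ centralizer ({gen .l * u} : Set Fi24) ⊓ commutator Fi24 :
        Subgroup Fi24) := by
    refine Nat.card_le_card_of_injective (fun y => ⟨((y : Spor.Fi24') : Fi24), ?_⟩) ?_
    · refine mem_inf.2 ⟨mem_inf.2 ⟨?_, ?_⟩, (y : Spor.Fi24').2⟩
      · rw [mem_centralizer_singleton_iff]
        exact congrArg Subtype.val (mem_centralizer_singleton_iff.1 (mem_inf.1 y.2).1)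
      · rw [mem_centralizer_singleton_iff]
        exact congrArg Subtype.val (mem_centralizer_singleton_iff.1 (mem_inf.1 y.2).2)
    · intro y y' h4
      exact Subtype.ext (Subtype.ext (congrArg (fun w : (centralizer ({x} : Set Fi24) ⊓
        centralizer ({gen .l * u} : Set Fi24) ⊓ commutator Fi24 : Subgroup Fi24) => (w : Fi24)) h4))
  omega

theorem lt_card_cz : 13 < Nat.card (centralizer ({z} : Set Spor.Fi24')) := by
  have hfin := finite
  have h1 : 13 ∣ Nat.card (centralizer ({z} : Set Spor.Fi24')) := by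
    have h2 := _root_.orderOf_dvd_natCard (⟨z, mem_centralizer_singleton_iff.2 rfl⟩ : centralizer ({z} : Set Spor.Fi24'))
    rwa [Subgroup.orderOf_mk, orderOf_z] at h2
  have h2 : 2 ∣ Nat.card (centralizer ({z} : Set Spor.Fi24')) := by
    have h3 := _root_.orderOf_dvd_natCard (⟨t, mem_centralizer_singleton_iff.2 zt.symm⟩ :
      centralizer ({z} : Set Spor.Fi24'))
    rwa [Subgroup.orderOf_mk, orderOf_t] at h3
  have h3 : 0 < Nat.card (centralizer ({z} : Set Spor.Fi24')) := Nat.card_pos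
  omega

/-! ### The element of order 27 -/

theorem y_mem : B24.D.x ∈ commutator Fi24 := (word_mem B24.xw).2 (by decide)

/-- an element of order 27 -/
noncomputable def y : Spor.Fi24' := ⟨B24.D.x, y_mem⟩

theorem w27_mem : R24.word Fi24W.w27 ∈ commutator Fi24 := (word_mem _).2 (Nat.even_iff.2 Fi24W.e27)

theorem y27 : y ^ 27 = 1 := by
  apply Subtype.ext
  exact pow_of R24 Fi24W.o27

theorem conj_y : (⟨R24.word Fi24W.w27, w27_mem⟩ : Spor.Fi24') * y * (⟨R24.word Fi24W.w27, w27_mem⟩ : Spor.Fi24')⁻¹ =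
    y ^ 2 := by
  apply Subtype.ext
  exact conj_of R24 Fi24W.c27

theorem rational_y (m : ℕ) (hm : m.Coprime (Nat.card Spor.Fi24')) : IsConj (y ^ m) y := by
  have hfin := finite
  exact rational_of conj_y y27 (by rw [card]; norm_num) two_pow_27 m hm

theorem orderOf_y : ∃ n, orderOf y = 3 ^ n := by
  have h1 : orderOf y ∣ 3 ^ 3 := orderOf_dvd_of_pow_eq_one y27
  obtain ⟨n, -, h2⟩ := (Nat.dvd_prime_pow Nat.prime_three).1 h1
  exact ⟨n, h2⟩

theorem card_cy : Nat.card (centralizer ({y} : Set Spor.Fi24')) ≤ 81 := by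
  have hfin := R08.FiTwentyFour.finite_Fi24
  refine le_trans ?_ B24.card_le
  refine Nat.card_le_card_of_injective (fun g => ⟨((g : Spor.Fi24') : Fi24), ?_⟩) ?_
  · rw [mem_centralizer_singleton_iff]
    exact congrArg Subtype.val (mem_centralizer_singleton_iff.1 g.2)
  · intro g g' h
    exact Subtype.ext (Subtype.ext (congrArg (fun w : centralizer ({B24.D.x} : Set Fi24) => (w : Fi24)) h))

/-! ### The row -/

/-- the factorization of the order -/
def fl : List (ℕ × ℕ) := [(29, 1), (23, 1), (17, 1), (13, 1), (11, 1), (7, 3), (5, 2), (3, 16), (2, 21)]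

theorem fl_prime : ∀ y ∈ fl, y.1.Prime := by
  intro x hx
  simp only [fl, List.mem_cons, List.not_mem_nil, or_false] at hx
  rcases hx with rfl | rfl | rfl | rfl | rfl | rfl | rfl | rfl | rfl <;> norm_num

section

variable [Finite Spor.Fi24'] [IsSimpleGroup Spor.Fi24']

theorem mod13 {χ : IrrCharacter Spor.Fi24'} {x : Spor.Fi24'} (h : One χ x) (h4 : 4 ≤ cent x) :
    charDegree (χ : Spor.Fi24' → ℂ) % 13 = 1 ∨ charDegree (χ : Spor.Fi24' → ℂ) % 13 = 12 := by
  by_cases hc : 13 < cent x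
  · have h1 := H733.OZ.pow_dvd h (r := 13) (n := 1) (by norm_num) (by rw [card]; norm_num) (by rw [card]; norm_num)
      (by rw [pow_one]; exact hc)
    have h2 := one_lt_deg h
    set d := charDegree (χ : Spor.Fi24' → ℂ) with hd
    have h3 : (d ^ 2 - 1) % 13 = 0 := Nat.mod_eq_zero_of_dvd h1
    have h4 : d ^ 2 % 13 = 1 := by
      have h5 : 1 ≤ d ^ 2 := Nat.one_le_pow _ _ (by omega)
      omega
    have h5 : ∀ r < 13, r ^ 2 % 13 = 1 → r = 1 ∨ r = 12 := by decide
    refine h5 (d % 13) (Nat.mod_lt _ (by norm_num)) ?_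
    rw [← Nat.pow_mod]
    exact h4
  · have hsq : ¬ 13 ^ 2 ∣ Nat.card Spor.Fi24' := by rw [card]; norm_num
    have h1 := H849.OZ.not_dvd_of_le (p := 13) (by norm_num) hsq orderOf_z lt_card_cz (x := x) (by
      have : cent x ≤ 13 := by omega
      exact this)
    exact mod_of_invol (p := 13) (by norm_num) (by norm_num) hsq (by rw [card]; norm_num) orderOf_z orderOf_t zt
      card_czt h h1 h4

theorem iso {p : ℕ} (hp : p.Prime) (h7 : 7 ≤ p) (hd : p ∣ Nat.card Spor.Fi24') (hsq : ¬ p ^ 2 ∣ Nat.card Spor.Fi24')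
    (hG : Nat.card Spor.Fi24' ≠ p)
    (hC : ∀ g : Spor.Fi24', orderOf g = p → Nat.card (centralizer ({g} : Set Spor.Fi24')) = p)
    {χ : IrrCharacter Spor.Fi24'} {x : Spor.Fi24'} (h : One χ x) (h4 : 4 ≤ cent x) :
    charDegree (χ : Spor.Fi24' → ℂ) % p = 1 ∨ charDegree (χ : Spor.Fi24' → ℂ) % p = p - 1 ∨
      (p ∣ charDegree (χ : Spor.Fi24' → ℂ) ∧ orderOf x = p ∧ cent x = p) := by
  have hF : Fact p.Prime := ⟨hp⟩
  obtain ⟨z, hz⟩ := exists_prime_orderOf_dvd_card' p hd
  rcases H849.OZ.iso hp h7 hsq hG hz (hC z hz) h h4 with h1 | h1 | h1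
  · exact Or.inl h1
  · exact Or.inr (Or.inl h1)
  · exact Or.inr (Or.inr ⟨h1.1, h1.2.1, h1.2.2.1⟩)

theorem iso17 {χ : IrrCharacter Spor.Fi24'} {x : Spor.Fi24'} (h : One χ x) (h4 : 4 ≤ cent x) :
    charDegree (χ : Spor.Fi24' → ℂ) % 17 = 1 ∨ charDegree (χ : Spor.Fi24' → ℂ) % 17 = 17 - 1 ∨
      (17 ∣ charDegree (χ : Spor.Fi24' → ℂ) ∧ orderOf x = 17 ∧ cent x = 17) :=
  iso (by norm_num) (by norm_num) (by rw [card]; norm_num) (by rw [card]; norm_num) (by rw [card]; norm_num)
    (fun _ hg => H968.Tor.card_cent24 (by norm_num) (by norm_num) (fun _ hR => (H256.Sep.FiData.data17 hR).1) hg) h h4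

theorem iso23 {χ : IrrCharacter Spor.Fi24'} {x : Spor.Fi24'} (h : One χ x) (h4 : 4 ≤ cent x) :
    charDegree (χ : Spor.Fi24' → ℂ) % 23 = 1 ∨ charDegree (χ : Spor.Fi24' → ℂ) % 23 = 23 - 1 ∨
      (23 ∣ charDegree (χ : Spor.Fi24' → ℂ) ∧ orderOf x = 23 ∧ cent x = 23) :=
  iso (by norm_num) (by norm_num) (by rw [card]; norm_num) (by rw [card]; norm_num) (by rw [card]; norm_num)
    (fun _ hg => H968.Tor.card_cent24 (by norm_num) (by norm_num) (fun _ hR => (H256.Sep.FiData.data23 hR).1) hg) h h4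

theorem iso29 {χ : IrrCharacter Spor.Fi24'} {x : Spor.Fi24'} (h : One χ x) (h4 : 4 ≤ cent x) :
    charDegree (χ : Spor.Fi24' → ℂ) % 29 = 1 ∨ charDegree (χ : Spor.Fi24' → ℂ) % 29 = 29 - 1 ∨
      (29 ∣ charDegree (χ : Spor.Fi24' → ℂ) ∧ orderOf x = 29 ∧ cent x = 29) :=
  iso (by norm_num) (by norm_num) (by rw [card]; norm_num) (by rw [card]; norm_num) (by rw [card]; norm_num)
    (fun _ hg => H968.Tor.card_cent29 hg) h h4

/-- **No irreducible character of `Fi24'` has exactly one class of zeros.** -/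
theorem none {χ : IrrCharacter Spor.Fi24'} {x : Spor.Fi24'} (h : One χ x) : False := by
  have h4 : 4 ≤ cent x := four_le_cent h (by rw [card]; norm_num) (by rw [card]; norm_num)
  have i17 := iso17 h h4
  have i23 := iso23 h h4
  have i29 := iso29 h h4
  have i13 := mod13 h h4
  have hiso : ∀ r ∈ [29, 23, 17, 13], charDegree (χ : Spor.Fi24' → ℂ) % r = 0 ∨
      charDegree (χ : Spor.Fi24' → ℂ) % r = 1 ∨ charDegree (χ : Spor.Fi24' → ℂ) % r = r - 1 := by
    intro r hr
    simp only [List.mem_cons, List.not_mem_nil, or_false] at hr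
    rcases hr with rfl | rfl | rfl | rfl
    · rcases i29 with h1 | h1 | h1
      exacts [Or.inr (Or.inl h1), Or.inr (Or.inr h1), Or.inl (Nat.mod_eq_zero_of_dvd h1.1)]
    · rcases i23 with h1 | h1 | h1
      exacts [Or.inr (Or.inl h1), Or.inr (Or.inr h1), Or.inl (Nat.mod_eq_zero_of_dvd h1.1)]
    · rcases i17 with h1 | h1 | h1
      exacts [Or.inr (Or.inl h1), Or.inr (Or.inr h1), Or.inl (Nat.mod_eq_zero_of_dvd h1.1)]
    · exact Or.inr i13
  have hm := H849.OZ.Sieve.mem_of_fast h card (l := fl) (L := [(29, 0), (23, 0), (17, 1), (13, 0), (11, 1), (7, 2),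
    (5, 1), (3, 15), (2, 20)]) (by decide +kernel) fl_prime (by decide +kernel) (by decide +kernel)
    (by norm_num : 0 < 4) h4 hiso (P := fun _ => true) rfl (M := 1255205709190661721292800 / 4 + 2) le_rfl
    (D := [690923520, 37902090240]) (by decide +kernel)
  have h17 : 17 ∣ charDegree (χ : Spor.Fi24' → ℂ) ∧ 3 ∣ charDegree (χ : Spor.Fi24' → ℂ) := by
    simp only [List.mem_cons, List.not_mem_nil, or_false] at hm
    rcases hm with h1 | h1
    · rw [h1]; norm_num
    · rw [h1]; norm_num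
  have hx : orderOf x = 17 ∧ cent x = 17 := by
    have h0 := Nat.mod_eq_zero_of_dvd h17.1
    rcases i17 with h1 | h1 | h1
    · omega
    · omega
    · exact h1.2
  have hne : ¬ IsConj x y := by
    intro hc
    obtain ⟨n, hn⟩ := orderOf_y
    have h1 := orderOf_eq_of_conj hc
    rw [hx.1, hn] at h1
    have h2 : 17 ∣ 3 ^ n := ⟨1, by rw [mul_one, h1]⟩
    have h3 := (Nat.prime_dvd_prime_iff_eq (by norm_num) Nat.prime_three).1
      ((by norm_num : Nat.Prime 17).dvd_of_dvd_pow h2)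
    omega
  have h5 := H849.OZ.one_prime h Nat.prime_three h17.2 orderOf_y rational_y hne
  have h6 : cent y ≤ 81 := card_cy
  rw [hx.2] at h5
  omega

end

end Cfsg.Agent.H593.OZ.Fi24

namespace Cfsg.Agent.H593.OZ

universe u

/-- **`Fi24'`.** -/
theorem row_fi24 {S : Type u} [Group S] [Finite S] (hs : IsSimpleGroup S) (h : Spor.IsoFi24' S) :
    Cfsg.Agent.H730.OZ.Row S := by
  obtain ⟨e⟩ := h
  have hfin : Finite Spor.Fi24' := Finite.of_equiv _ e.toEquiv
  have hsimple : IsSimpleGroup Spor.Fi24' := e.symm.isSimpleGroup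
  exact H730.OZ.Row.congr e (row_of fun χ x hx => Fi24.none hx)

end Cfsg.Agent.H593.OZ
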